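import Cfsg.Agent.SmallGroups.BelowThousand

/-!
# No simple group has order 5400

A Sylow 5-subgroup `P` (order 25) meets another one in a subgroup `D` of order five.  In `H = C(D)` the
conjugates of `D` are counted: too many of them centralize two given conjugates of `D` in `P`.
-/

set_option autoImplicit false
set_option linter.style.haveILetI false
set_option linter.unusedSectionVars false

namespace Cfsg.Agent.SmallGroups.BelowSixThousand

open Subgroup BelowThousand

section General

variable {G : Type} [Group G]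

/-- Conjugate of a subgroup. -/
def cj (g : G) (K : Subgroup G) : Subgroup G := K.map (MulAut.conj g).toMonoidHom

theorem card_cj (g : G) (K : Subgroup G) : Nat.card ↥(cj g K) = Nat.card ↥K :=
  (Nat.card_congr (K.equivMapOfInjective _ (MulAut.conj g).injective).toEquiv).symm

theorem cj_injective (g : G) : Function.Injective (cj g) :=
  Subgroup.map_injective (MulAut.conj g).injective

theorem cj_cj (g h : G) (K : Subgroup G) : cj g (cj h K) = cj (g * h) K := by
  rw [cj, cj, cj, Subgroup.map_map]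
  congr 1
  ext x
  simp [mul_assoc]

theorem cj_le {g : G} {K L : Subgroup G} (hg : g ∈ normalizer (L : Set G)) (h : K ≤ L) : cj g K ≤ L :=
  (Subgroup.map_mono h).trans (le_of_eq (Subgroup.mem_normalizer_iff_map_conj_eq.1 hg))

theorem cj_eq_self {g : G} {K : Subgroup G} (hg : g ∈ normalizer (K : Set G)) : cj g K = K :=
  Subgroup.mem_normalizer_iff_map_conj_eq.1 hg

/-- Distinct subgroups of the same prime order generate more. -/
theorem eq_of_le_prime [Finite G] {D L R : Subgroup G} {p : ℕ} (hp : p.Prime) (hD : Nat.card ↥D = p)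
    (hL : Nat.card ↥L = p) (hR : Nat.card ↥R = p) (h1 : D ≤ R) (h2 : L ≤ R) : D = L :=
  (Subgroup.eq_of_le_of_card_ge h1 (by rw [hD, hR])).trans
    (Subgroup.eq_of_le_of_card_ge h2 (by rw [hL, hR])).symm

/-- A group of order `25` has at most six subgroups of order five. -/
theorem ncard_le_six [Finite G] (P : Subgroup G) (hP : Nat.card ↥P = 25) (s : Set (Subgroup G))
    (hs : ∀ L ∈ s, Nat.card ↥L = 5 ∧ L ≤ P) : s.ncard ≤ 6 := by
  classical
  have := Fintype.ofFinite ↥s
  let f : (Σ L : ↥s, {x : ↥(L : Subgroup G) // x ≠ 1}) → {x : ↥P // x ≠ 1} := fun z =>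
    ⟨⟨z.2.1.1, (hs _ z.1.2).2 z.2.1.2⟩, fun h => z.2.2 (Subtype.ext (congrArg (fun y : ↥P => y.1) h))⟩
  have hf : Function.Injective f := by
    rintro ⟨⟨L, hL⟩, ⟨x, hx⟩, hx1⟩ ⟨⟨M, hM⟩, ⟨y, hy⟩, hy1⟩ he
    obtain rfl : x = y := congrArg (fun z : {x : ↥P // x ≠ 1} => z.1.1) he
    obtain rfl : L = M := by
      have ho : ∀ (K : Subgroup G), K ∈ s → x ∈ K → zpowers x = K := fun K hK hxK => by
        refine Subgroup.eq_of_le_of_card_ge (zpowers_le.2 hxK) ?_
        have h5 := orderOf_dvd_natCard (⟨x, hxK⟩ : ↥K)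
        rw [(hs K hK).1] at h5
        rcases (Nat.dvd_prime (by norm_num : Nat.Prime 5)).1 h5 with h | h
        · exact absurd (orderOf_eq_one_iff.1 h) (fun h' => hx1 (Subtype.ext (congrArg (fun z : ↥K => z.1) h')))
        · rw [(hs K hK).1, Nat.card_zpowers, ← h, Subgroup.orderOf_mk]
      exact (ho L hL hx).symm.trans (ho M hM hy)
    rfl
  have h := Nat.card_le_card_of_injective f hf
  rw [Nat.card_sigma, Finset.sum_congr rfl (g := fun _ => 4), Finset.sum_const, Finset.card_univ,
    smul_eq_mul, ← Nat.card_eq_fintype_card, Nat.card_coe_set_eq] at h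
  · have hP1 : Nat.card {x : ↥P // x ≠ 1} = 24 := by
      have := Fintype.ofFinite ↥P
      rw [Nat.card_eq_fintype_card, Fintype.card_subtype_compl, Fintype.card_subtype_eq,
        ← Nat.card_eq_fintype_card, hP]
    omega
  intro L _
  have := Fintype.ofFinite ↥(L : Subgroup G)
  rw [Nat.card_eq_fintype_card, Fintype.card_subtype_compl, Fintype.card_subtype_eq,
    ← Nat.card_eq_fintype_card, (hs _ L.2).1]

/-- If the Sylow number is not `1` modulo `25`, two Sylow 5-subgroups of order 25 meet in order five. -/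
theorem exists_inf_five [Finite G] (hP : ∀ R : Sylow 5 G, Nat.card ↥(R : Subgroup G) = 25)
    [Fact (Nat.Prime 5)] (hne : Nat.card (Sylow 5 G) % 25 ≠ 1) (P : Sylow 5 G) :
    ∃ Q : Sylow 5 G, Q ≠ P ∧ Nat.card ↥((P : Subgroup G) ⊓ (Q : Subgroup G)) = 5 := by
  classical
  have hp : Nat.Prime 5 := Fact.out
  by_contra hcon
  push Not at hcon
  refine hne ?_
  letI : Fintype (Sylow 5 G) := Fintype.ofFinite _
  letI : Fintype (MulAction.orbitRel.Quotient (P : Subgroup G) (Sylow 5 G)) := Fintype.ofFinite _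
  let ω₀ : MulAction.orbitRel.Quotient (P : Subgroup G) (Sylow 5 G) := Quotient.mk'' P
  have horb : ∀ Q : Sylow 5 G, Nat.card (MulAction.orbit (P : Subgroup G) Q) *
      Nat.card ↥((P : Subgroup G) ⊓ (Q : Subgroup G)) = 25 := by
    intro Q
    have e : MulAction.stabilizer (P : Subgroup G) Q =
        ((P : Subgroup G) ⊓ (Q : Subgroup G)).subgroupOf (P : Subgroup G) := by
      rw [Subgroup.inf_subgroupOf_left]
      ext x
      rw [MulAction.mem_stabilizer_iff, Subgroup.mem_subgroupOf]
      refine Sylow.smul_eq_iff_mem_normalizer.trans ⟨fun hx => ?_, fun hx => le_normalizer hx⟩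
      exact (le_of_eq (IsPGroup.inf_normalizer_sylow P.2 Q) ⟨x.2, hx⟩).2
    rw [← hP P, ← Subgroup.card_mul_index (MulAction.stabilizer (P : Subgroup G) Q), mul_comm,
      MulAction.index_stabilizer, Nat.card_coe_set_eq, e,
      Nat.card_congr (Subgroup.subgroupOfEquivOfLe inf_le_left).toEquiv]
  rw [← Nat.card_congr (MulAction.selfEquivSigmaOrbits (P : Subgroup G) (Sylow 5 G)).symm,
    Nat.card_sigma, ← Finset.add_sum_erase _ _ (Finset.mem_univ ω₀)]
  have h0 : Nat.card (MulAction.orbit (P : Subgroup G) (Quotient.out ω₀)) = 1 := by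
    have e : MulAction.orbit (P : Subgroup G) (Quotient.out ω₀) =
        MulAction.orbit (P : Subgroup G) P :=
      MulAction.orbit_eq_iff.2 (MulAction.orbitRel_apply.1 (Quotient.exact' (Quotient.out_eq' ω₀)))
    rw [e]
    have := horb P
    rw [inf_idem, hP P] at this
    omega
  have h' : ∀ ω ∈ Finset.univ.erase ω₀,
      25 ∣ Nat.card (MulAction.orbit (P : Subgroup G) (Quotient.out ω)) := by
    intro ω hω
    have hQP : Quotient.out ω ≠ P := fun h => (Finset.mem_erase.1 hω).1 (by
      rw [← Quotient.out_eq' ω, h])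
    have hd := Subgroup.card_dvd_of_le (inf_le_left :
      (P : Subgroup G) ⊓ (Quotient.out ω : Sylow 5 G) ≤ P)
    rw [hP, show 25 = 5 ^ 2 by norm_num] at hd
    obtain ⟨i, hi, hi'⟩ := (Nat.dvd_prime_pow hp).1 hd
    have hne5 := hcon _ hQP
    have := horb (Quotient.out ω)
    interval_cases i <;> rw [hi'] at this
    · rw [pow_zero, mul_one] at this
      rw [this]
    · exact absurd (hi'.trans (pow_one 5)) hne5
    · exfalso
      refine hQP (Sylow.ext (Subgroup.eq_of_le_of_card_ge (fun x hx => ?_) (by rw [hP, hP])).symm)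
      have h' := Subgroup.eq_of_le_of_card_ge (inf_le_left :
        (P : Subgroup G) ⊓ (Quotient.out ω : Sylow 5 G) ≤ P) (by rw [hP, hi']; norm_num)
      exact (h'.ge hx).2
  obtain ⟨t, ht⟩ := Finset.dvd_sum h'
  rw [h0, ht]
  omega

/-- A group of order `25 * j` with a Sylow 2-subgroup of order two and `j` small has one Sylow 5-subgroup. -/
theorem card_sylow_five_eq_one [Finite G] [Fact (Nat.Prime 5)] {j' : ℕ} (hG : Nat.card G = 2 * (25 * j'))
    (hj : j' = 3 ∨ j' = 9) : Nat.card (Sylow 5 G) = 1 := by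
  classical
  haveI : Fact (Nat.Prime 2) := ⟨Nat.prime_two⟩
  obtain ⟨T⟩ := (inferInstance : Nonempty (Sylow 2 G))
  have hT : Nat.card ↥(T : Subgroup G) = 2 :=
    (SmallGroups.card_sylow_subgroup (a := 1) (m := 25 * j') (by rw [hG, pow_one])
      (by rcases hj with rfl | rfl <;> norm_num) T).trans (by norm_num)
  haveI : Fact (Nat.card ↥(T : Subgroup G)).Prime := ⟨by rw [hT]; exact Nat.prime_two⟩
  have hle := IsCyclic.normalizer_le_centralizer
    ((Nat.minFac_eq_two_iff _).2 ⟨_, hG⟩) (P := T) (isCyclic_of_prime_card (p := 2) hT)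
  set K := (MonoidHom.transferSylow T hle).ker
  have hK : Nat.card ↥K = 25 * j' := by
    have h : Nat.card ↥K * 2 = 2 * (25 * j') := by
      have h := (MonoidHom.ker_transferSylow_isComplement' T hle).card_mul_card
      rw [hT] at h
      exact h.trans hG
    omega
  have hRK : ∀ R : Sylow 5 G, (R : Subgroup G) ≤ K := by
    intro R x hx
    rw [MonoidHom.mem_ker, ← orderOf_eq_one_iff]
    obtain ⟨i, hi⟩ := R.2 ⟨x, hx⟩
    have h1 : orderOf x ∣ 5 ^ i := orderOf_dvd_of_pow_eq_one (congrArg (fun y : ↥(R : Subgroup G) => y.1) hi)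
    refine Nat.eq_one_of_dvd_coprimes (a := 5 ^ i) (b := 2) ?_ ((orderOf_map_dvd _ x).trans h1) ?_
    · exact Nat.Coprime.pow_left i (by norm_num)
    · exact (_root_.orderOf_dvd_natCard _).trans (dvd_of_eq hT)
  have hK1 : Nat.card (Sylow 5 ↥K) = 1 := by
    have h1 := SmallGroups.card_sylow_dvd (p := 5) (a := 2) (m := j') (G := ↥K) (by rw [hK]; norm_num)
    have h2 := card_sylow_modEq_one 5 ↥K
    rw [Nat.ModEq] at h2
    have := Nat.le_of_dvd (by omega) h1
    rcases hj with rfl | rfl <;> interval_cases h3 : Nat.card (Sylow 5 ↥K) <;> omega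
  have hsub := (Nat.card_eq_one_iff_unique.1 hK1).1
  refine Nat.card_eq_one_iff_unique.2 ⟨⟨fun R Q => ?_⟩, inferInstance⟩
  exact Sylow.subtype_injective (hP := hRK R) (hQ := hRK Q) (Subsingleton.elim _ _)

end General

variable {G : Type} [Group G] [Finite G] [IsSimpleGroup G]

/-- No simple group has order 5400. -/
theorem not_5400 (hG : ¬ IsMulCommutative G) (e : Nat.card G = 5400) : False := by
  classical
  haveI : Fact (Nat.Prime 5) := ⟨by norm_num⟩
  have h5 : Nat.Prime 5 := Fact.out
  have hc : Nat.card G = 5 ^ 2 * 216 := e.trans (by norm_num)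
  have hP : ∀ R : Sylow 5 G, Nat.card ↥(R : Subgroup G) = 25 :=
    fun R => (SmallGroups.card_sylow_subgroup hc (by norm_num) R).trans (by norm_num)
  have hab : ∀ R : Sylow 5 G, ∀ a ∈ (R : Subgroup G), ∀ b ∈ (R : Subgroup G), a * b = b * a := by
    intro R a ha b hb
    have h := (IsPGroup.isMulCommutative_of_card_eq_prime_sq
      (G := ↥(R : Subgroup G)) (p := 5) (by rw [hP R]; norm_num)).is_comm.comm ⟨a, ha⟩ ⟨b, hb⟩
    exact congrArg Subtype.val h
  obtain ⟨P⟩ := (inferInstance : Nonempty (Sylow 5 G))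
  have hn : Nat.card (Sylow 5 G) = 36 := by
    have h1 := SmallGroups.card_sylow_mem hG (p := 5) hc (by norm_num)
    rw [Finset.mem_filter] at h1
    have h2 := factOk_card_sylow hG (p := 5) (by rw [e]; norm_num)
    rw [e] at h2
    rcases (by decide +kernel : ∀ s ∈ Nat.divisors 216, s % 5 = 1 → 1 < s → factOk 5400 s = true →
      s = 36 ∨ s = 216) _ h1.1 h1.2.1 h1.2.2 h2 with h | h
    · exact h
    exfalso
    have hN := SmallGroups.card_sylow_mul_card_normalizer P
    rw [h, e] at hN
    have hNP : normalizer ((P : Subgroup G) : Set G) = (P : Subgroup G) :=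
      (Subgroup.eq_of_le_of_card_ge le_normalizer (by rw [hP P]; omega)).symm
    refine SmallGroups.not_normalizer_le_centralizer hG (by rw [e]; norm_num) P ?_
    rw [hNP]
    exact fun x hx y hy => hab P y hy x hx
  have hNc : Nat.card ↥(normalizer ((P : Subgroup G) : Set G)) = 150 := by
    have h := SmallGroups.card_sylow_mul_card_normalizer P
    rw [hn, e] at h
    omega
  obtain ⟨Q, hQ, hPQ⟩ := exists_inf_five hP (by rw [hn]; norm_num) P
  set D := (P : Subgroup G) ⊓ (Q : Subgroup G) with hDdef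
  set H := centralizer (D : Set G) with hHdef
  have hle : ∀ R : Sylow 5 G, D ≤ R → (R : Subgroup G) ≤ H :=
    fun R hR x hx y hy => hab R y (hR hy) x hx
  have hPH := hle P inf_le_left
  have hQH := hle Q inf_le_right
  have hDH : D ≤ H := inf_le_left.trans hPH
  have hH : H ≠ ⊤ := fun hT => by
    have h1 := Subgroup.centralizer_eq_top_iff_subset.1 hT
    rw [SmallGroups.center_eq_bot hG] at h1
    have h2 : D = ⊥ := eq_bot_iff.2 h1
    rw [h2, Subgroup.card_bot] at hPQ
    omega
  obtain ⟨j, hj⟩ := hP P ▸ Subgroup.card_dvd_of_le hPH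
  have hidx : H.index * j = 216 := by
    have := H.card_mul_index
    rw [hj, e] at this
    linarith
  have hnH : Nat.card (Sylow 5 ↥H) = 6 ∧ (j = 6 ∨ j = 12 ∨ j = 18) := by
    have hf := factOk_index hG hH
    rw [e] at hf
    have hi := (by decide +kernel : ∀ i ∈ Nat.divisors 216, factOk 5400 i = true → 10 ≤ i) H.index
      (Nat.mem_divisors.2 ⟨⟨j, hidx.symm⟩, by norm_num⟩) hf
    have h1 : 1 < Nat.card (Sylow 5 ↥H) :=
      Finite.one_lt_card_iff_nontrivial.2 ⟨P.subtype hPH, Q.subtype hQH,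
        fun h => hQ (Sylow.subtype_injective h).symm⟩
    have h2 := card_sylow_modEq_one 5 ↥H
    rw [Nat.ModEq] at h2
    have hj21 : j ≤ 21 := by
      by_contra h
      have := Nat.mul_le_mul hi (show 22 ≤ j by omega)
      omega
    have hdvd := SmallGroups.card_sylow_dvd (p := 5) (a := 2) (m := j) (G := ↥H) (by rw [hj]; norm_num)
    have hj216 : j ∣ 216 := ⟨H.index, by rw [mul_comm]; exact hidx.symm⟩
    exact (by decide +kernel : ∀ j ∈ Nat.divisors 216, j ≤ 21 → ∀ s ∈ Nat.divisors j, s % 5 = 1 → 1 < s →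
      s = 6 ∧ (j = 6 ∨ j = 12 ∨ j = 18)) j (Nat.mem_divisors.2 ⟨hj216, by norm_num⟩) hj21 _
      (Nat.mem_divisors.2 ⟨hdvd, fun h => by rw [h, mul_zero] at hidx; omega⟩) h2 h1
  obtain ⟨hn6, hj'⟩ := hnH
  obtain rfl : j = 12 := by
    rcases hj' with rfl | rfl | rfl
    · have := card_sylow_five_eq_one (G := ↥H) (j' := 3) (by rw [hj]) (Or.inl rfl)
      omega
    · rfl
    · have := card_sylow_five_eq_one (G := ↥H) (j' := 9) (by rw [hj]) (Or.inr rfl)
      omega
  have hi18 : H.index = 18 := by omega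
  -- the normalizer of `D` is `H`
  have hND : normalizer (D : Set G) = H := by
    have hHN : H ≤ normalizer (D : Set G) := Subgroup.centralizer_le_normalizer _
    have hNT : normalizer (D : Set G) ≠ ⊤ := fun hT => by
      have hn' : D.Normal := Subgroup.normalizer_eq_top_iff.1 hT
      rcases hn'.eq_bot_or_eq_top with h | h
      · rw [h, Subgroup.card_bot] at hPQ; omega
      · rw [h, Subgroup.card_top] at hPQ; omega
    have hf := factOk_index hG hNT
    rw [e] at hf
    have hdvd := Subgroup.index_dvd_of_le hHN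
    rw [hi18] at hdvd
    have := (by decide +kernel : ∀ i ∈ Nat.divisors 18, factOk 5400 i = true → i = 18) _
      (Nat.mem_divisors.2 ⟨hdvd, by norm_num⟩) hf
    have hc1 := (normalizer (D : Set G)).card_mul_index
    rw [this, e] at hc1
    exact (Subgroup.eq_of_le_of_card_ge hHN (by rw [hj]; omega)).symm
  -- three conjugates of `D` in `P`
  have hDc : ∀ g : G, Nat.card ↥(cj g D) = 5 := fun g => (card_cj g D).trans hPQ
  have hfix : ∀ x ∈ H, cj x D = D := fun x hx => cj_eq_self (by rw [hND]; exact hx)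
  let T : Set (Subgroup G) := (fun g => cj g D) '' (normalizer ((P : Subgroup G) : Set G) : Set G)
  have hTP : ∀ L ∈ T, L ≤ (P : Subgroup G) := by
    rintro _ ⟨g, hg, rfl⟩
    exact cj_le hg inf_le_left
  have hT3 : 3 ≤ T.ncard := by
    set N := normalizer ((P : Subgroup G) : Set G) with hNdef
    have hinf : Nat.card ↥(H ⊓ N : Subgroup G) ≤ 50 := by
      let P' : Sylow 5 ↥H := P.subtype hPH
      have hmem : ∀ x : ↥(H ⊓ N : Subgroup G),
          (⟨x.1, x.2.1⟩ : ↥H) ∈ normalizer ((P' : Subgroup ↥H) : Set ↥H) := fun x => by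
        rw [Sylow.coe_subtype]
        refine Subgroup.mem_normalizer_iff.2 fun y => ?_
        simp only [Subgroup.mem_subgroupOf, Subgroup.coe_mul, Subgroup.coe_inv]
        exact Subgroup.mem_normalizer_iff.1 x.2.2 y.1
      have h1 := Nat.card_le_card_of_injective
        (fun x : ↥(H ⊓ N : Subgroup G) =>
          (⟨_, hmem x⟩ : ↥(normalizer ((P' : Subgroup ↥H) : Set ↥H))))
        fun x y h => Subtype.ext (congrArg (fun z : ↥(normalizer ((P' : Subgroup ↥H) : Set ↥H)) => (z.1 : G)) h)
      have h2 := SmallGroups.card_sylow_mul_card_normalizer P'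
      rw [hn6, hj] at h2
      omega
    let K := H.subgroupOf N
    have hK : Nat.card ↥K ≤ 50 := by
      refine le_trans (le_of_eq ?_) hinf
      change Nat.card ↥(H.subgroupOf N) = _
      rw [← Subgroup.inf_subgroupOf_right, Nat.card_congr (Subgroup.subgroupOfEquivOfLe inf_le_right).toEquiv]
    have hK3 : 3 ≤ K.index := by
      have := K.card_mul_index
      rw [hNc] at this
      by_contra h
      have := Nat.mul_le_mul hK (show K.index ≤ 2 by omega)
      omega
    let f : ↥N ⧸ K → ↥T := fun q => ⟨cj (q.out : G) D, _, q.out.2, rfl⟩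
    have hf : Function.Injective f := by
      intro q r h
      have h' : cj (q.out : G) D = cj (r.out : G) D := congrArg Subtype.val h
      rw [← q.out_eq', ← r.out_eq', QuotientGroup.eq]
      change ((q.out⁻¹ * r.out : ↥N) : G) ∈ H
      rw [← hND, Subgroup.mem_normalizer_iff_map_conj_eq]
      change cj ((q.out⁻¹ * r.out : ↥N) : G) D = D
      rw [Subgroup.coe_mul, Subgroup.coe_inv, ← cj_cj, ← h', cj_cj, inv_mul_cancel,
        cj_eq_self (Subgroup.one_mem _)]
    have := Nat.card_le_card_of_injective f hf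
    rw [Nat.card_coe_set_eq, ← Subgroup.index_eq_card] at this
    omega
  obtain ⟨L₁, hL₁T, hL₁⟩ := Set.exists_ne_of_one_lt_ncard (show 1 < T.ncard by omega) D
  obtain ⟨g₁, hg₁, rfl⟩ := hL₁T
  have hDT : D ∈ T := ⟨1, Subgroup.one_mem _, cj_eq_self (Subgroup.one_mem _)⟩
  -- the conjugates
  let S : Set (Subgroup G) := Set.range fun g => cj g D
  have hS : S.ncard ≤ 18 := by
    have hsub : S ⊆ Set.range fun q : G ⧸ H => cj q.out D := by
      rintro _ ⟨g, rfl⟩
      refine ⟨(g : G ⧸ H), ?_⟩
      obtain ⟨h, hh⟩ := QuotientGroup.mk_out_eq_mul H g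
      change cj ((g : G ⧸ H).out) D = cj g D
      rw [hh, ← cj_cj, hfix _ h.2]
    refine (Set.ncard_le_ncard hsub (Set.finite_range _)).trans ?_
    rw [← hi18, Subgroup.index_eq_card, ← Nat.card_coe_set_eq]
    exact Nat.card_le_card_of_surjective _ Set.rangeFactorization_surjective
  let SD : Set (Subgroup G) := {L | L ∈ S ∧ L ≤ H}
  have hSD : 13 ≤ SD.ncard := by
    have hconj : ∀ R : Sylow 5 ↥H, ∃ h : ↥H, h • (P.subtype hPH) = R := fun R => MulAction.exists_smul_eq ↥H _ R
    choose h hh using hconj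
    have hle6 : 2 ≤ (T \ {D}).ncard := by
      rw [Set.ncard_sdiff_singleton_of_mem hDT]; omega
    let f : Sylow 5 ↥H × ↥(T \ {D}) → ↥(SD \ {D}) := fun x => ⟨cj (h x.1 : G) x.2.1, ⟨⟨by
        obtain ⟨g, -, hg⟩ := x.2.2.1
        exact ⟨(h x.1 : G) * g, by rw [← hg, cj_cj]⟩,
        cj_le (le_normalizer (h x.1).2) ((hTP _ x.2.2.1).trans hPH)⟩,
      fun hx => x.2.2.2 (cj_injective (h x.1 : G) ((Set.mem_singleton_iff.1 hx).trans
        (hfix _ (h x.1).2).symm))⟩⟩
    have hmapR : ∀ R : Sylow 5 ↥H, cj (h R : G) (P : Subgroup G) = (R : Subgroup ↥H).map H.subtype := by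
      intro R
      conv_rhs => rw [← hh R]
      ext y
      constructor
      · rintro ⟨z, hz, rfl⟩
        exact ⟨h R * ⟨z, hPH hz⟩ * (h R)⁻¹, ⟨⟨z, hPH hz⟩, hz, rfl⟩, rfl⟩
      · rintro ⟨_, ⟨z, hz, rfl⟩, rfl⟩
        exact ⟨z.1, hz, rfl⟩
    have hf : Function.Injective f := by
      rintro ⟨R, L, hL⟩ ⟨R', L', hL'⟩ he
      have he' : cj (h R : G) L = cj (h R' : G) L' := congrArg Subtype.val he
      obtain rfl : R = R' := by
        by_contra hne
        refine (f ⟨R, L, hL⟩).2.2 (Set.mem_singleton_iff.2 ?_)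
        change cj (h R : G) L = D
        set A := cj (h R : G) (P : Subgroup G) with hA
        set B := cj (h R' : G) (P : Subgroup G) with hB
        have hAB : Nat.card ↥(A ⊓ B) = 5 := by
          have hA25 : Nat.card ↥A = 25 := (card_cj _ _).trans (hP P)
          have hB25 : Nat.card ↥B = 25 := (card_cj _ _).trans (hP P)
          have hd := Subgroup.card_dvd_of_le (inf_le_left : A ⊓ B ≤ A)
          rw [hA25, show 25 = 5 ^ 2 by norm_num] at hd
          obtain ⟨i, hi, hi'⟩ := (Nat.dvd_prime_pow h5).1 hd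
          have hD' : D ≤ A ⊓ B := le_inf
            (le_of_eq_of_le (hfix _ (h R).2).symm (Subgroup.map_mono inf_le_left))
            (le_of_eq_of_le (hfix _ (h R').2).symm (Subgroup.map_mono inf_le_left))
          have := Subgroup.card_dvd_of_le hD'
          rw [hPQ, hi'] at this
          interval_cases i
          · norm_num at this
          · rw [hi']; norm_num
          · exfalso
            have e1 : A ⊓ B = A := Subgroup.eq_of_le_of_card_ge inf_le_left (by rw [hA25, hi']; norm_num)
            have e2 : A ⊓ B = B := Subgroup.eq_of_le_of_card_ge inf_le_right (by rw [hB25, hi']; norm_num)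
            refine hne (Sylow.ext (Subgroup.map_injective H.subtype_injective ?_))
            rw [← hmapR, ← hmapR]
            exact e1.symm.trans e2
        refine eq_of_le_prime h5 ((card_cj _ _).trans ?_) hPQ hAB ?_ (le_inf ?_ ?_)
        · obtain ⟨g, -, rfl⟩ := hL.1
          exact hDc g
        · refine le_inf (Subgroup.map_mono (hTP L hL.1)) ?_
          rw [he']
          exact Subgroup.map_mono (hTP L' hL'.1)
        · exact le_of_eq_of_le (hfix _ (h R).2).symm (Subgroup.map_mono inf_le_left)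
        · exact le_of_eq_of_le (hfix _ (h R').2).symm (Subgroup.map_mono inf_le_left)
      obtain rfl : L = L' := cj_injective _ he'
      rfl
    have h12 := Nat.card_le_card_of_injective f hf
    rw [Nat.card_prod, hn6, Nat.card_coe_set_eq, Nat.card_coe_set_eq,
      Set.ncard_sdiff_singleton_of_mem (show D ∈ SD from ⟨⟨1, cj_eq_self (Subgroup.one_mem _)⟩, hDH⟩)] at h12
    omega
  let S1 : Set (Subgroup G) := cj g₁ '' SD
  have hS1 : 13 ≤ S1.ncard := by
    rw [Set.ncard_image_of_injective _ (cj_injective g₁)]; exact hSD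
  have hS1S : S1 ⊆ S := by
    rintro _ ⟨_, ⟨⟨g, rfl⟩, -⟩, rfl⟩
    exact ⟨g₁ * g, (cj_cj _ _ _).symm⟩
  have hgen : D ⊔ cj g₁ D = (P : Subgroup G) := by
    have hsle : D ⊔ cj g₁ D ≤ (P : Subgroup G) := sup_le inf_le_left (hTP _ ⟨g₁, hg₁, rfl⟩)
    refine Subgroup.eq_of_le_of_card_ge hsle ?_
    have hd := Subgroup.card_dvd_of_le hsle
    rw [hP, show 25 = 5 ^ 2 by norm_num] at hd
    obtain ⟨i, hi, hi'⟩ := (Nat.dvd_prime_pow h5).1 hd
    rw [hP, hi']
    interval_cases i
    · exfalso
      have := Subgroup.card_dvd_of_le (le_sup_left : D ≤ D ⊔ cj g₁ D)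
      rw [hPQ, hi'] at this
      norm_num at this
    · exact absurd (eq_of_le_prime h5 hPQ (hDc g₁) (hi'.trans (pow_one 5)) le_sup_left le_sup_right).symm hL₁
    · norm_num
  have hint : (SD ∩ S1).ncard ≤ 6 := by
    refine ncard_le_six (P : Subgroup G) (hP P) _ ?_
    rintro L ⟨⟨⟨g, rfl⟩, hLH⟩, L', ⟨-, hL'H⟩, hL'⟩
    refine ⟨hDc g, ?_⟩
    have h1 : D ≤ centralizer (cj g D : Set G) := Subgroup.le_centralizer_iff.1 hLH
    simp only at hL' hLH ⊢
    have h2 : cj g₁ D ≤ centralizer (cj g D : Set G) := by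
      rw [← hL']
      refine Subgroup.le_centralizer_iff.1 ?_
      rintro _ ⟨x, hx, rfl⟩ _ ⟨y, hy, rfl⟩
      exact (Commute.map (show Commute y x from hL'H hx y hy) (MulAut.conj g₁).toMonoidHom).eq
    have h3 : cj g D ≤ normalizer ((P : Subgroup G) : Set G) :=
      (Subgroup.le_centralizer_iff.1 (hgen ▸ sup_le h1 h2)).trans (Subgroup.centralizer_le_normalizer _)
    have h4 := IsPGroup.inf_normalizer_sylow
      (IsPGroup.of_card (n := 1) ((hDc g).trans (pow_one 5).symm)) P
    exact (le_inf le_rfl h3).trans (h4.le.trans inf_le_right)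
  have hu := Set.ncard_union_add_ncard_inter SD S1
  have hle' : (SD ∪ S1).ncard ≤ S.ncard :=
    Set.ncard_le_ncard (Set.union_subset (fun L hL => hL.1) hS1S) (Set.toFinite _)
  omega

end Cfsg.Agent.SmallGroups.BelowSixThousand
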