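import Cfsg.Agent.SmallGroups.BelowSixThousand.Degree
import Cfsg.Agent.SmallGroups.SelfCentPrime.Cofactor.Main
import Cfsg.Agent.Linear.Orders
import Cfsg.Agent.S0999

/-!
# The orders between 3640 and 6232 left by the elementary tests
-/

set_option autoImplicit false
set_option linter.style.haveILetI false
set_option linter.unusedSectionVars false

namespace Cfsg.Agent.SmallGroups.BelowSixThousand

open Subgroup BelowThousand

/-- The primes at most 17 dividing `n`. -/
def primes (n : ℕ) : List ℕ := [2, 3, 5, 7, 11, 13, 17].filter fun q => n % q == 0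

/-- Candidates for the orders. -/
def chk (n : ℕ) : Bool :=
  510510 ^ 13 % n == 0 && decide (3 ≤ (primes n).length) &&
    ((primes n).any fun p => (primes n).all (fun q => decide (p ≤ q)) &&
      (n % p ^ 3 == 0 || n % 12 == 0)) &&
    (n % 2 != 0 || n % 4 == 0) && (n % 17 != 0 || decide (4913 ≤ n))

/-- A prime `p` to the first power with a cofactor `g₀ < p - 1` next to a prime power. -/
def cofKill (n : ℕ) : Bool :=
  (primes n).any fun p => n / p % p != 0 && (primes n).any fun q =>
    p != q && decide (n / p / Nat.gcd (n / p) (q ^ 13) < p - 1)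

/-- `factOk`, giving up for large arguments. -/
def factOk' (n s : ℕ) : Bool := decide (50 ≤ s) || s.factorial % (2 * n) == 0

/-- A prime to the first power without admissible Sylow data. -/
def primeKill (n r : ℕ) : Bool :=
  n / r % r != 0 && (List.range (n / r / r + 1)).all fun j =>
    n / r % ((j + 1) * r + 1) != 0 || !factOk' n ((j + 1) * r + 1) ||
      (List.range r).all fun k => decide (k ≤ 1) || (r - 1) % k != 0 ||
        n / r % (((j + 1) * r + 1) * k) != 0 ||
        !degOk n r k (n / r / (((j + 1) * r + 1) * k))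

/-- The orders needing a further argument. -/
def leftOrders : List ℕ :=
  [3920, 4032, 4080, 4320, 4356, 4500, 4620, 4704, 4860, 5040, 5292, 5400, 5460, 5616, 5760, 6000,
    6048, 6084]

/-- An order is excluded or listed. -/
def sieve (n : ℕ) : Bool :=
  !chk n || cofKill n || (primes n).any (primeKill n) || leftOrders.contains n

theorem sieve_all : ∀ i < 2592, sieve (3641 + i) = true := by decide +kernel

variable {G : Type} [Group G] [Finite G] [IsSimpleGroup G]

/-- The order of a group with the conclusion of the cofactor theorem. -/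
theorem card_of_conclusion {p : ℕ} (hp : p ≤ 17) (h : SelfCentPrime.Conclusion G p)
    (h1 : 3640 < Nat.card G) : Nat.card G = 4080 := by
  rcases h with ⟨F, _, _, hF, -, ⟨e⟩⟩ | ⟨m, F, _, _, hF, hpm, hp3, ⟨e⟩⟩
  · have hN := Linear.card_PSL_two_mul (F := F)
    rw [← Nat.card_congr e.toEquiv, hF] at hN
    rcases Nat.eq_zero_or_pos (Nat.gcd 2 (p - 1)) with h0 | h0
    · simp [Nat.gcd_eq_zero_iff] at h0
    have := Nat.le_mul_of_pos_left (Nat.card G) h0
    by_cases h16 : p ≤ 15
    · have : p * (p - 1) * (p + 1) ≤ 15 * 14 * 16 := by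
        exact Nat.mul_le_mul (Nat.mul_le_mul h16 (by omega)) (by omega)
      omega
    · obtain rfl | rfl : p = 16 ∨ p = 17 := by omega
      · norm_num at hN; omega
      · norm_num at hN; omega
  · have hN := Linear.card_PSL_two_mul (F := F)
    rw [← Nat.card_congr e.toEquiv, hF] at hN
    have hm : m ≤ 4 := by
      by_contra h'
      have : 2 ^ 5 ≤ 2 ^ m := Nat.pow_le_pow_right (by norm_num) (by omega)
      omega
    interval_cases m <;> norm_num at hN hpm <;> omega

variable (hG : ¬ IsMulCommutative G)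
include hG

/-- Either the order is 4080 or 6072, or all primes are small. -/
theorem prime_bound {p : ℕ} (hp : p.Prime) (hd : p ∣ Nat.card G) (h1 : 3640 < Nat.card G)
    (h2 : Nat.card G ≤ 6232) :
    (Nat.card G = 4080 ∨ Nat.card G = 6072) ∨ (p ≤ 17 ∧ (p = 17 → 4913 ≤ Nat.card G)) := by
  by_contra hcon
  push Not at hcon
  obtain ⟨⟨hne1, hne2⟩, hcon⟩ := hcon
  have hp17 : 17 ≤ p := by
    by_contra h
    exact absurd (hcon (by omega)).1 (by omega)
  have hbig : Nat.card G < p ^ 3 := by
    rcases eq_or_lt_of_le hp17 with h | h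
    · rw [← h]; have := (hcon (by omega)).2; omega
    · have : 19 ≤ p := by
        by_contra h'
        obtain rfl : p = 18 := by omega
        norm_num at hp
      have : 19 ^ 3 ≤ p ^ 3 := Nat.pow_le_pow_left this 3
      omega
  have hnc : ¬ IsCyclic G := fun h => hG inferInstance
  rcases S0999.result hnc p hp hd hbig with
    ⟨F, _, _, hF, -, ⟨e⟩⟩ | ⟨m, F, _, _, hF, hpm, hp3, ⟨e⟩⟩
  · have hN := Linear.card_PSL_two_mul (F := F)
    rw [← Nat.card_congr e.toEquiv, hF] at hN
    have hgle : Nat.gcd 2 (p - 1) ≤ 2 := Nat.gcd_le_left _ (by norm_num)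
    have hle : p * (p - 1) * (p + 1) ≤ 2 * Nat.card G := hN ▸ Nat.mul_le_mul_right _ hgle
    have hp25 : p ≤ 25 := by
      by_contra h'
      have : 26 * 25 * 27 ≤ p * (p - 1) * (p + 1) :=
        Nat.mul_le_mul (Nat.mul_le_mul (by omega) (by omega)) (by omega)
      omega
    interval_cases p <;> norm_num at hp <;> norm_num at hN <;> omega
  · have hN := Linear.card_PSL_two_mul (F := F)
    rw [← Nat.card_congr e.toEquiv, hF] at hN
    have hm : m ≤ 4 := by
      by_contra h'
      have h5 : 2 ^ 5 ≤ 2 ^ m := Nat.pow_le_pow_right (by norm_num) (by omega)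
      have hgle : Nat.gcd 2 (2 ^ m - 1) ≤ 2 := Nat.gcd_le_left _ (by norm_num)
      have hle : 2 ^ m * (2 ^ m - 1) * (2 ^ m + 1) ≤ 2 * Nat.card G := hN ▸ Nat.mul_le_mul_right _ hgle
      have : 32 * 31 * 33 ≤ 2 ^ m * (2 ^ m - 1) * (2 ^ m + 1) :=
        Nat.mul_le_mul (Nat.mul_le_mul (by omega) (by omega)) (by omega)
      omega
    interval_cases m <;> norm_num at hN hpm <;> omega

/-- The orders left after the elementary tests. -/
theorem card_mem_leftOrders (h1 : 3640 < Nat.card G) (h2 : Nat.card G ≤ 6232) :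
    Nat.card G ∈ leftOrders ∨ Nat.card G = 6072 := by
  by_cases h48 : Nat.card G = 4080
  · exact Or.inl (by rw [h48]; decide)
  by_cases h60 : Nat.card G = 6072
  · exact Or.inr h60
  left
  have hprime : ∀ q : ℕ, q.Prime → q ∣ Nat.card G →
      q ∈ [2, 3, 5, 7, 11, 13, 17] ∧ (q = 17 → 4913 ≤ Nat.card G) := by
    intro q hq hd
    obtain ⟨h17, h⟩ := (prime_bound hG hq hd h1 h2).resolve_left (by omega)
    refine ⟨?_, h⟩
    interval_cases q <;> first | decide | norm_num at hq
  have hps : ∀ q, q ∈ primes (Nat.card G) ↔ q.Prime ∧ q ∣ Nat.card G := by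
    intro q
    rw [primes, List.mem_filter, beq_iff_eq]
    constructor
    · rintro ⟨h3, h4⟩
      refine ⟨?_, Nat.dvd_of_mod_eq_zero h4⟩
      simp only [List.mem_cons, List.not_mem_nil, or_false] at h3
      rcases h3 with rfl | rfl | rfl | rfl | rfl | rfl | rfl <;> norm_num
    · exact fun ⟨h3, h4⟩ => ⟨(hprime q h3 h4).1, Nat.mod_eq_zero_of_dvd h4⟩
  have hchk : chk (Nat.card G) = true := by
    have hn1 : Nat.card G ≠ 1 := by omega
    have hlen : 3 ≤ (primes (Nat.card G)).length := by
      by_contra hlt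
      obtain ⟨p, q, hp, hq, hpq⟩ : ∃ p q : ℕ, p.Prime ∧ q.Prime ∧
          ∀ r, r ∈ primes (Nat.card G) → r = p ∨ r = q := by
        rcases hl : primes (Nat.card G) with _ | ⟨p, _ | ⟨q, _ | ⟨r, M⟩⟩⟩
        · exact ⟨2, 2, Nat.prime_two, Nat.prime_two, by simp⟩
        · have := ((hps p).1 (by rw [hl]; simp)).1
          exact ⟨p, p, this, this, by simp⟩
        · exact ⟨p, q, ((hps p).1 (by rw [hl]; simp)).1, ((hps q).1 (by rw [hl]; simp)).1, by simp⟩
        · rw [hl] at hlt; simp at hlt
      haveI := Char.solvable_of_card_eq_pow_mul_pow p q hp hq (Nat.card G) rfl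
        fun r hr hd => hpq r ((hps r).2 ⟨hr, hd⟩)
      exact hG ⟨⟨IsSimpleGroup.comm_iff_isSolvable.2 inferInstance⟩⟩
    have hp3 : (Nat.card G).minFac ^ 3 ∣ Nat.card G ∨ 12 ∣ Nat.card G := by
      refine Cfsg.Agent.S0073.result ?_
      by_contra h
      push Not at h
      exact hG ⟨⟨h⟩⟩
    simp only [chk, Bool.and_eq_true, Bool.or_eq_true, decide_eq_true_eq, beq_iff_eq, bne_iff_ne,
      List.all_eq_true, List.any_eq_true]
    refine ⟨⟨⟨⟨?_, hlen⟩, (Nat.card G).minFac, (hps _).2 ⟨Nat.minFac_prime hn1, Nat.minFac_dvd _⟩,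
      fun q hq => Nat.minFac_le_of_dvd ((hps q).1 hq).1.two_le ((hps q).1 hq).2,
      hp3.imp Nat.mod_eq_zero_of_dvd Nat.mod_eq_zero_of_dvd⟩, ?_⟩, ?_⟩
    · refine Nat.mod_eq_zero_of_dvd ((Nat.dvd_iff_prime_pow_dvd_dvd _ _).2 fun q k hq hd => ?_)
      rcases Nat.eq_zero_or_pos k with rfl | hk
      · simp
      have h3 := (hprime q hq ((dvd_pow_self q hk.ne').trans hd)).1
      have hk13 : k ≤ 13 := by
        by_contra h
        have h4 : 2 ^ 14 ≤ q ^ k :=
          (Nat.pow_le_pow_left hq.two_le 14).trans (Nat.pow_le_pow_right hq.pos (by omega))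
        have := Nat.le_of_dvd Nat.card_pos hd
        norm_num at h4
        omega
      refine (pow_dvd_pow q hk13).trans (pow_dvd_pow_of_dvd ?_ 13)
      simp only [List.mem_cons, List.not_mem_nil, or_false] at h3
      rcases h3 with rfl | rfl | rfl | rfl | rfl | rfl | rfl <;> norm_num
    · rcases Nat.mod_two_eq_zero_or_one (Nat.card G) with h | h
      · exact Or.inr (Nat.mod_eq_zero_of_dvd (four_dvd_card hG (Nat.dvd_of_mod_eq_zero h)))
      · exact Or.inl (by omega)
    · by_cases h : 17 ∣ Nat.card G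
      · exact Or.inr ((hprime 17 (by norm_num) h).2 rfl)
      · exact Or.inl fun h' => h (Nat.dvd_of_mod_eq_zero h')
  have hs := sieve_all (Nat.card G - 3641) (by omega)
  rw [show 3641 + (Nat.card G - 3641) = Nat.card G by omega] at hs
  simp only [sieve, hchk, Bool.not_true, Bool.false_or, Bool.or_eq_true, List.any_eq_true] at hs
  rcases hs with (hs | hs) | hs
  · simp only [cofKill, List.any_eq_true, Bool.and_eq_true, bne_iff_ne, decide_eq_true_eq] at hs
    obtain ⟨p, hp, hnd, q, hq, hpq, hg⟩ := hs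
    obtain ⟨hpp, hpd⟩ := (hps p).1 hp
    have := Fact.mk hpp
    obtain ⟨b, -, hb⟩ := (Nat.dvd_prime_pow ((hps q).1 hq).1).1
      (Nat.gcd_dvd_right (Nat.card G / p) (q ^ 13))
    obtain ⟨g₀, hg₀⟩ : q ^ b ∣ Nat.card G / p := hb ▸ Nat.gcd_dvd_left _ _
    rw [hb, hg₀, Nat.mul_div_cancel_left _ (pow_pos ((hps q).1 hq).1.pos b)] at hg
    have hcard : Nat.card G = p * q ^ b * g₀ := by
      rw [mul_assoc, ← hg₀, Nat.mul_div_cancel' hpd]
    have hp17 : p ≤ 17 := ((prime_bound hG hpp hpd h1 h2).resolve_left (by omega)).1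
    exact absurd (card_of_conclusion hp17
      (SelfCentPrime.Cofactor.conclusion_of_card hG ((hps q).1 hq).1 hpq hcard hg).2 h1) h48
  · obtain ⟨r, hr, hk⟩ := hs
    obtain ⟨hrp, hrd⟩ := (hps r).1 hr
    have := Fact.mk hrp
    simp only [primeKill, Bool.and_eq_true, bne_iff_ne] at hk
    obtain ⟨hnd, hall⟩ := hk
    have hm : Nat.card G = r * (Nat.card G / r) := (Nat.mul_div_cancel' hrd).symm
    have hnd' : ¬ r ∣ Nat.card G / r := fun h => hnd (Nat.mod_eq_zero_of_dvd h)
    obtain ⟨n, k, c, -, hn, hnr, hn1, hk, hk1, hnkc, hf, hP, hC, hNP⟩ :=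
      prime_data hG r (Nat.card G / r) _ rfl hm hnd'
    rw [Nat.mem_divisors] at hn hk
    have hnm := Nat.le_of_dvd (Nat.pos_of_ne_zero hn.2) hn.1
    have hjn : (n / r - 1 + 1) * r + 1 = n := by
      have hd := Nat.div_add_mod n r
      have : 1 ≤ n / r := by
        rcases Nat.eq_zero_or_pos (n / r) with h | h
        · rw [h, mul_zero] at hd; omega
        · exact h
      rw [Nat.sub_add_cancel this, mul_comm]
      omega
    have hd := List.all_eq_true.1 hall (n / r - 1) (List.mem_range.2
      (Nat.lt_succ_of_le ((Nat.sub_le _ _).trans (Nat.div_le_div_right hnm))))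
    rw [hjn] at hd
    simp only [Bool.or_eq_true, bne_iff_ne, Bool.not_eq_true', List.all_eq_true,
      List.mem_range, decide_eq_true_eq] at hd
    have hdeg := degOk_card hG (r := r) (k := k) (c := c) (by omega)
      (fun h => hnd' (hnkc ▸ dvd_mul_of_dvd_right (dvd_mul_of_dvd_right h k) n)) hk.1 hP hC hNP
    exfalso
    rcases hd with (h | h) | h
    · exact h (Nat.mod_eq_zero_of_dvd hn.1)
    · rw [factOk, beq_iff_eq] at hf
      simp [factOk', hf] at h
    · have hkr : k < r := by
        have := Nat.le_of_dvd (Nat.pos_of_ne_zero hk.2) hk.1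
        omega
      rcases h k hkr with ((h | h) | h) | h
      · omega
      · exact h (Nat.mod_eq_zero_of_dvd hk.1)
      · exact h (Nat.mod_eq_zero_of_dvd ⟨c, by rw [← hnkc]; ring⟩)
      · rw [← hnkc, ← mul_assoc, Nat.mul_div_cancel_left _ (Nat.mul_pos (by omega) (by omega)),
          hdeg] at h
        exact absurd h (by simp)
  · simpa using hs

end Cfsg.Agent.SmallGroups.BelowSixThousand
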