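import Cfsg.Agent.SmallGroups.BelowSixThousand.Degree

/-!
# No simple group has order 4620 or 5460
-/

set_option autoImplicit false
set_option linter.style.haveILetI false
set_option linter.unusedSectionVars false

namespace Cfsg.Agent.SmallGroups.BelowSixThousand

open Subgroup BelowThousand

variable {G : Type} [Group G] [Finite G] [IsSimpleGroup G]

/-- If `C(P)` has a unique subgroup of prime order `q`, then `N(P)` normalizes it. -/
theorem normalizer_le_normalizer_sylow {q r c d : ℕ} [hq : Fact q.Prime] [Fact r.Prime] (P : Sylow r G)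
    (hC : Nat.card ↥(centralizer ((P : Subgroup G) : Set G)) = q * c)
    (hQ : ∀ Q : Sylow q G, Nat.card ↥(Q : Subgroup G) = q)
    (h1 : ∀ s ∈ c.divisors, s % q = 1 → s = 1)
    (hN : ∀ Q : Sylow q G, Nat.card ↥(normalizer ((Q : Subgroup G) : Set G)) = d) :
    Nat.card ↥(normalizer ((P : Subgroup G) : Set G)) ∣ d := by
  classical
  set C := centralizer ((P : Subgroup G) : Set G) with hCdef
  obtain ⟨y, hy⟩ := exists_prime_orderOf_dvd_card' (G := ↥C) q (hC ▸ dvd_mul_right q c)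
  have hc0 : c ≠ 0 := fun h => by rw [h, mul_zero] at hC; exact Nat.card_pos.ne' hC
  have hone : Subsingleton (Sylow q ↥C) := by
    refine (Nat.card_eq_one_iff_unique.1 (h1 _ (Nat.mem_divisors.2
      ⟨SmallGroups.card_sylow_dvd (a := 1) (by rw [hC, pow_one]), hc0⟩) ?_)).1
    have := card_sylow_modEq_one q ↥C
    rw [Nat.ModEq, Nat.mod_eq_of_lt hq.out.one_lt] at this
    exact this
  obtain ⟨Q, hQy⟩ := (IsPGroup.of_card (p := q) (n := 1)
    (by rw [Nat.card_zpowers, Subgroup.orderOf_coe, hy, pow_one]) :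
      IsPGroup q ↥(zpowers (y : G))).exists_le_sylow
  have hQeq : zpowers (y : G) = (Q : Subgroup G) :=
    Subgroup.eq_of_le_of_card_ge hQy (by rw [hQ Q, Nat.card_zpowers, Subgroup.orderOf_coe, hy])
  have hQC : (Q : Subgroup G) ≤ C := hQeq ▸ zpowers_le.2 y.2
  rw [← hN Q]
  refine Subgroup.card_dvd_of_le fun g hg => Subgroup.mem_normalizer_iff_map_conj_eq.2 ?_
  have hgC : C.map (MulAut.conj g).toMonoidHom ≤ C := by
    rintro _ ⟨x, hx, rfl⟩ z hz
    have h2 := (Subgroup.mem_normalizer_iff.1 (inv_mem hg) z).1 hz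
    have h3 : (g⁻¹ * z * g⁻¹⁻¹) * x = x * (g⁻¹ * z * g⁻¹⁻¹) := hx _ h2
    have h4 := congrArg (fun w => g * w * g⁻¹) h3
    simp only [MulEquiv.coe_toMonoidHom, MulAut.conj_apply]
    simpa [mul_assoc] using h4
  have hQg : ((g • Q : Sylow q G) : Subgroup G) ≤ C := (Subgroup.map_mono hQC).trans hgC
  have := Subsingleton.elim ((g • Q).subtype hQg) (Q.subtype hQC)
  exact congrArg (fun R : Sylow q G => (R : Subgroup G)) (Sylow.subtype_injective this)

variable (hG : ¬ IsMulCommutative G)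
include hG

theorem not_4620 (e : Nat.card G = 4620) : False := by
  haveI : Fact (Nat.Prime 5) := ⟨by norm_num⟩
  haveI : Fact (Nat.Prime 7) := ⟨by norm_num⟩
  haveI : Fact (Nat.Prime 11) := ⟨by norm_num⟩
  obtain ⟨n₅, k₅, c₅, hn₅, hd₅, hm₅, h1₅, hk₅, hk1₅, he₅, hf₅, hP₅, hC₅, hN₅⟩ :=
    prime_data hG 5 924 4620 e (by norm_num) (by norm_num)
  obtain ⟨n₇, k₇, c₇, hn₇, hd₇, hm₇, h1₇, hk₇, hk1₇, he₇, hf₇, hP₇, hC₇, hN₇⟩ :=
    prime_data hG 7 660 4620 e (by norm_num) (by norm_num)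
  obtain ⟨n, k, c, hn, hd, hm, h1, hk, hk1, he, hf, hP, hC, hN⟩ :=
    prime_data hG 11 420 4620 e (by norm_num) (by norm_num)
  have g₇ := e ▸ degOk_card hG (r := 7) (k := k₇) (c := c₇) (by rw [e]; norm_num)
    (fun h => absurd (h.trans (he₇ ▸ dvd_mul_of_dvd_right (dvd_mul_left c₇ k₇) n₇)) (by norm_num))
    (Nat.mem_divisors.1 hk₇).1 hP₇ hC₇ hN₇
  have g := e ▸ degOk_card hG (r := 11) (k := k) (c := c) (by rw [e]; norm_num)
    (fun h => absurd (h.trans (he ▸ dvd_mul_of_dvd_right (dvd_mul_left c k) n)) (by norm_num))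
    (Nat.mem_divisors.1 hk).1 hP hC hN
  have hc₇ : c₇ = 660 / (n₇ * k₇) := by
    rw [← he₇, ← mul_assoc, Nat.mul_div_cancel_left _ (Nat.mul_pos (by omega) (by omega))]
  have hc : c = 420 / (n * k) := by
    rw [← he, ← mul_assoc, Nat.mul_div_cancel_left _ (Nat.mul_pos (by omega) (by omega))]
  have hc₅ : c₅ = 924 / (n₅ * k₅) := by
    rw [← he₅, ← mul_assoc, Nat.mul_div_cancel_left _ (Nat.mul_pos (by omega) (by omega))]
  rw [hc₇] at g₇
  rw [hc] at g
  have h11 := (by decide +kernel : ∀ n ∈ Nat.divisors 420, n % 11 = 1 → 1 < n →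
    ∀ k ∈ Nat.divisors (11 - 1), 1 < k → 420 % (n * k) = 0 → factOk 4620 n = true →
      degOk 4620 11 k (420 / (n * k)) = true → n = 210 ∧ k = 2) n hd hm h1 k hk hk1
      (Nat.mod_eq_zero_of_dvd ⟨c, by rw [← he]; ring⟩) hf g
  have h7 := (by decide +kernel : ∀ n ∈ Nat.divisors 660, n % 7 = 1 → 1 < n →
    ∀ k ∈ Nat.divisors (7 - 1), 1 < k → 660 % (n * k) = 0 → factOk 4620 n = true →
      degOk 4620 7 k (660 / (n * k)) = true → (n = 22 ∧ k = 6) ∨ (n = 330 ∧ k = 2))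
      n₇ hd₇ hm₇ h1₇ k₇ hk₇ hk1₇ (Nat.mod_eq_zero_of_dvd ⟨c₇, by rw [← he₇]; ring⟩) hf₇ g₇
  have h5 := (by decide +kernel : ∀ n ∈ Nat.divisors 924, n % 5 = 1 → 1 < n →
    ∀ k ∈ Nat.divisors (5 - 1), 1 < k → 924 % (n * k) = 0 → factOk 4620 n = true →
      (n = 11 ∧ (k = 2 ∨ k = 4)) ∨ (n = 21 ∧ (k = 2 ∨ k = 4)) ∨ (n = 66 ∧ k = 2) ∨
        (n = 231 ∧ (k = 2 ∨ k = 4))) n₅ hd₅ hm₅ h1₅ k₅ hk₅ hk1₅
      (Nat.mod_eq_zero_of_dvd ⟨c₅, by rw [← he₅]; ring⟩) hf₅
  obtain ⟨rfl, rfl⟩ := h11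
  norm_num at hc
  subst c
  obtain ⟨R⟩ := (inferInstance : Nonempty (Sylow 11 G))
  obtain ⟨Q⟩ := (inferInstance : Nonempty (Sylow 5 G))
  obtain ⟨S⟩ := (inferInstance : Nonempty (Sylow 7 G))
  by_cases h115 : 11 ∣ 5 * c₅
  · exact kill_centralizer hG 5 11 c₅ 1 hC₅ hP₅ hP hC h115 (by norm_num)
  rcases h7 with ⟨rfl, rfl⟩ | ⟨rfl, rfl⟩ <;> norm_num at hc₇ <;> subst c₇
  · by_cases h57 : 7 ∣ 5 * c₅
    · rcases h5 with ⟨rfl, h⟩ | ⟨rfl, h⟩ | ⟨rfl, rfl⟩ | ⟨rfl, h⟩
      · exact kill_index hG 11 4620 11 22 (by norm_num) _ ((card_sylow_eq_index Q).symm.trans hn₅)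
          (R : Subgroup G) (hP R) (hN R) (by norm_num) (by decide +kernel) e
      · rcases h with rfl | rfl <;> norm_num at hc₅ <;> subst c₅ <;> norm_num at h57
      · norm_num at hc₅
        subst c₅
        have := normalizer_le_normalizer_sylow (q := 5) (r := 7) (c := 7) (d := 70) S
          (by rw [hC₇ S]) hP₅ (by decide) fun T => by rw [hN₅ T]
        rw [hN₇ S] at this
        norm_num at this
      · rcases h with rfl | rfl <;> norm_num at hc₅ <;> subst c₅ <;> norm_num at h57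
    · exact kill_centralizer hG 7 5 5 c₅ hC₇ hP₇ hP₅ hC₅ (by norm_num) h57
  · by_cases h57 : 7 ∣ 5 * c₅
    · exact kill_centralizer hG 5 7 c₅ 1 hC₅ hP₅ hP₇ hC₇ h57 (by norm_num)
    rcases h5 with ⟨rfl, h⟩ | ⟨rfl, h⟩ | ⟨rfl, rfl⟩ | ⟨rfl, h⟩
    · rcases h with rfl | rfl <;> norm_num at hc₅ <;> subst c₅ <;> norm_num at h57
    · rcases h with rfl | rfl <;> norm_num at hc₅ <;> subst c₅ <;> norm_num at h115
    · norm_num at hc₅
      subst c₅
      norm_num at h57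
    · rcases h with rfl | rfl <;> norm_num at hc₅ <;> subst c₅ <;>
        exact kill_count hG 5 7 11 _ 1 1 hP₅ hC₅ hP₇ hC₇ hP hC (by norm_num) (by norm_num)
          (by norm_num) (by rw [e, hn, hn₅, hn₇]; norm_num)

theorem not_5460 (e : Nat.card G = 5460) : False := by
  haveI : Fact (Nat.Prime 13) := ⟨by norm_num⟩
  haveI : Fact (Nat.Prime 2) := ⟨Nat.prime_two⟩
  obtain ⟨n, k, c, hn, hd, hm, h1, hk, hk1, he, hf, hP, hC, hN⟩ :=
    prime_data hG 13 420 5460 e (by norm_num) (by norm_num)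
  have g := e ▸ degOk_card hG (r := 13) (k := k) (c := c) (by rw [e]; norm_num)
    (fun h => absurd (h.trans (he ▸ dvd_mul_of_dvd_right (dvd_mul_left c k) n)) (by norm_num))
    (Nat.mem_divisors.1 hk).1 hP hC hN
  have hc : c = 420 / (n * k) := by
    rw [← he, ← mul_assoc, Nat.mul_div_cancel_left _ (Nat.mul_pos (by omega) (by omega))]
  rw [hc] at g
  have h13 := (by decide +kernel : ∀ n ∈ Nat.divisors 420, n % 13 = 1 → 1 < n →
    ∀ k ∈ Nat.divisors (13 - 1), 1 < k → 420 % (n * k) = 0 → factOk 5460 n = true →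
      degOk 5460 13 k (420 / (n * k)) = true → n = 105 ∧ k = 4) n hd hm h1 k hk hk1
      (Nat.mod_eq_zero_of_dvd ⟨c, by rw [← he]; ring⟩) hf g
  obtain ⟨rfl, rfl⟩ := h13
  norm_num at hc
  subst c
  obtain ⟨P⟩ := (inferInstance : Nonempty (Sylow 13 G))
  set N := normalizer ((P : Subgroup G) : Set G) with hNdef
  have hN52 : Nat.card ↥N = 52 := by rw [hN P]
  obtain ⟨T₀, hT₀⟩ := Sylow.exists_subgroup_card_pow_prime 2 (G := ↥N) (n := 2)
    (by rw [hN52]; norm_num)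
  have hTc : Nat.card ↥(T₀.map N.subtype) = 2 ^ 2 := by
    rw [Subgroup.card_map_of_injective (Subgroup.subtype_injective _), hT₀]
  obtain ⟨S, hTS⟩ := (IsPGroup.of_card hTc).exists_le_sylow
  have hS : Nat.card ↥(S : Subgroup G) = 4 :=
    (SmallGroups.card_sylow_subgroup (a := 2) (m := 1365) (e.trans (by norm_num)) (by norm_num) S).trans
      (by norm_num)
  have hSN : (S : Subgroup G) ≤ N :=
    (Subgroup.eq_of_le_of_card_ge hTS (by rw [hS, hTc]; norm_num)).ge.trans (Subgroup.map_subtype_le _)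
  haveI : IsCyclic ↥(P : Subgroup G) := isCyclic_of_prime_card (p := 13) (hP P)
  haveI : IsCyclic (MulAut ↥(P : Subgroup G)) := by
    haveI : Fact (Nat.card ↥(P : Subgroup G)).Prime := ⟨by rw [hP P]; norm_num⟩
    exact isCyclic_of_injective (IsCyclic.mulAutMulEquiv ↥(P : Subgroup G)).toMonoidHom
      (MulEquiv.injective _)
  let f : ↥(S : Subgroup G) →* MulAut ↥(P : Subgroup G) :=
    (P : Subgroup G).normalizerMonoidHom.comp (Subgroup.inclusion hSN)
  have hf' : Function.Injective f := by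
    rw [← MonoidHom.ker_eq_bot_iff, eq_bot_iff]
    intro x hx
    have hxC : (x : G) ∈ centralizer ((P : Subgroup G) : Set G) := by
      have h : Subgroup.inclusion hSN x ∈ (P : Subgroup G).normalizerMonoidHom.ker := hx
      rw [Subgroup.normalizerMonoidHom_ker] at h
      exact h
    have h2 : orderOf (x : G) ∣ 13 * 1 := hC P ▸ Subgroup.orderOf_dvd_natCard _ hxC
    have h3 : orderOf (x : G) ∣ 4 := hS ▸ Subgroup.orderOf_dvd_natCard _ x.2
    have := Nat.dvd_gcd h2 h3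
    norm_num at this
    exact Subgroup.mem_bot.2 this
  exact SmallGroups.not_isCyclic_sylow_two hG (by rw [e]; norm_num) S (isCyclic_of_injective f hf')

end Cfsg.Agent.SmallGroups.BelowSixThousand
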