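import Cfsg.Agent.SmallGroups.BelowThousand
import Cfsg.Agent.SmallGroups.OrderPDegree
import Cfsg.Agent.SmallGroups.Exceptional

/-!
# A computable degree test for a Sylow subgroup of prime order

If `P` is a Sylow subgroup of prime order `r` with `|N(P) : C(P)| = k` and `|C(P)| = r * c`, the degrees in the
principal block must solve a small arithmetic system; `degOk` decides whether it is soluble.
-/

set_option autoImplicit false
set_option linter.style.haveILetI false
set_option linter.unusedSectionVars false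

namespace Cfsg.Agent.SmallGroups.BelowSixThousand

/-- Is there a multiset of `j` pairs from the list with square sum at most `b` and signed sum `t`? -/
def search : List (ℕ × ℤ) → ℕ → ℕ → ℤ → Bool
  | [], _, j, t => j == 0 && t == 0
  | x :: L, b, j, t => (List.range (j + 1)).any fun i =>
      decide (i * (x.1 * x.1) ≤ b) && search L (b - i * (x.1 * x.1)) (j - i) (t - (i : ℤ) * (x.2 * x.1))

/-- Signed sum. -/
def sgnSum (M : List (ℕ × ℤ)) : ℤ := (M.map fun z => z.2 * (z.1 : ℤ)).sum

/-- Sum of squares. -/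
def sqSum (M : List (ℕ × ℤ)) : ℕ := (M.map fun z => z.1 * z.1).sum

theorem search_complete : ∀ (L M : List (ℕ × ℤ)) (b : ℕ), (∀ z ∈ M, z ∈ L) → sqSum M ≤ b →
    search L b M.length (sgnSum M) = true
  | [], M, b, hM, _ => by
    obtain rfl : M = [] := List.eq_nil_iff_forall_not_mem.2 fun z hz => List.not_mem_nil (hM z hz)
    simp [search, sgnSum]
  | x :: L, M, b, hM, hb => by
    classical
    have hperm : (M.filter (· = x) ++ M.filter fun z => !decide (z = x)).Perm M :=
      List.filter_append_perm _ M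
    have hrep : M.filter (· = x) = List.replicate (M.filter (· = x)).length x :=
      List.eq_replicate_iff.2 ⟨rfl, fun z hz => by simpa using (List.mem_filter.1 hz).2⟩
    obtain ⟨i, hi⟩ : ∃ i, i = (M.filter (· = x)).length := ⟨_, rfl⟩
    obtain ⟨M', hM'⟩ : ∃ M', M' = M.filter fun z => !decide (z = x) := ⟨_, rfl⟩
    rw [← hi] at hrep
    rw [hrep, ← hM'] at hperm
    have hlen : i + M'.length = M.length := by
      rw [← hperm.length_eq, List.length_append, List.length_replicate]
    have hsg : (i : ℤ) * (x.2 * x.1) + sgnSum M' = sgnSum M := by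
      rw [sgnSum, sgnSum, ← (hperm.map _).sum_eq, List.map_append, List.sum_append,
        List.map_replicate, List.sum_replicate, nsmul_eq_mul]
    have hsq : i * (x.1 * x.1) + sqSum M' = sqSum M := by
      rw [sqSum, sqSum, ← (hperm.map _).sum_eq, List.map_append, List.sum_append,
        List.map_replicate, List.sum_replicate, smul_eq_mul]
    have hmem : ∀ z ∈ M', z ∈ L := fun z hz => by
      rw [hM', List.mem_filter] at hz
      refine (List.mem_cons.1 (hM z hz.1)).resolve_left ?_
      simpa using hz.2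
    have ih := search_complete L M' (b - i * (x.1 * x.1)) hmem (by omega)
    rw [search, List.any_eq_true]
    refine ⟨i, List.mem_range.2 (by omega), ?_⟩
    rw [Bool.and_eq_true, decide_eq_true_eq, show M.length - i = M'.length by omega,
      show sgnSum M - (i : ℤ) * (x.2 * x.1) = sgnSum M' by omega]
    exact ⟨by omega, ih⟩

/-- The possible degrees of non-trivial characters of the principal block. -/
def degrees (N lo : ℕ) : List ℕ :=
  (List.range 80).filter fun f => decide (lo ≤ f) && N % f == 0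

/-- The possible pairs of degree and sign. -/
def signed (N r lo : ℕ) : List (ℕ × ℤ) :=
  (degrees N lo).flatMap fun (f : ℕ) => ([1, -1] : List ℤ).filterMap fun (s : ℤ) =>
    if ((f : ℤ) - s) % r = 0 then some (f, s) else none

/-- Is the degree system soluble for `|G| = N`, `|P| = r`, `|N(P) : C(P)| = k`, `|C(P)| = r * c`? -/
def degOk (N r k c : ℕ) : Bool :=
  let lo := if 1 < c then 2 * r else 2
  ([1, -1] : List ℤ).any fun ε => (degrees N lo).any fun d =>
    ((d : ℤ) - ε * k) % r == 0 && decide (1 + (r - 1) / k * (d * d) ≤ N) &&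
      search (signed N r lo) (N - 1 - (r - 1) / k * (d * d)) (k - 1) (ε * d - 1)

open Cfsg Subgroup in
/-- The degree system is soluble. -/
theorem degOk_card {G : Type*} [Group G] [Finite G] [IsSimpleGroup G] (hG : ¬ IsMulCommutative G)
    {r k c : ℕ} [hr : Fact r.Prime] (hN : Nat.card G < 80 * 80) (hrc : ¬ r ∣ c) (hk : k ∣ r - 1)
    (hP : ∀ P : Sylow r G, Nat.card ↥(P : Subgroup G) = r)
    (hC : ∀ P : Sylow r G, Nat.card ↥(centralizer ((P : Subgroup G) : Set G)) = r * c)
    (hNP : ∀ P : Sylow r G, Nat.card ↥(normalizer ((P : Subgroup G) : Set G)) = r * (k * c)) :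
    degOk (Nat.card G) r k c = true := by
  classical
  letI := Fintype.ofFinite G
  obtain ⟨P⟩ := (inferInstance : Nonempty (Sylow r G))
  have hc0 : 0 < c := Nat.pos_of_ne_zero fun h => hrc (h ▸ dvd_zero r)
  have he : (centralizer ((P : Subgroup G) : Set G)).relIndex
      (normalizer ((P : Subgroup G) : Set G)) = k := by
    have hmul := Subgroup.relIndex_mul_relIndex (⊥ : Subgroup G) _ _ bot_le
      (Subgroup.centralizer_le_normalizer ((P : Subgroup G) : Set G))
    rw [relIndex_bot_left, relIndex_bot_left, hC P, hNP P,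
      show r * (k * c) = r * c * k by ring] at hmul
    exact Nat.eq_of_mul_eq_mul_left (Nat.mul_pos hr.out.pos hc0) hmul
  obtain ⟨M, hM⟩ := BlkChar.exists_isPModular r hr.out
  obtain ⟨X, Y, sgn, ε, hdisj, hB, hXc, hYc, hTX, hTs, hε, hXd, hYd, hYsum, hrel⟩ :=
    OrderP.exists_block_data hM P (hP P) k he
  choose dg hdg0 hdg hdgdvd using fun χ : Cfsg.IrrCharacter G => Char.irr_degree_dvd_card χ.2
  have hcd : ∀ χ : IrrCharacter G, Cfsg.charDegree (χ : G → ℂ) = dg χ :=
    fun χ => Char.charDegree_of_eq (hdg χ)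
  have hk0 : k ≠ 0 := by rw [← hXc]; exact Finset.card_ne_zero_of_mem hTX
  have hr1 : 1 ≤ r - 1 := by have := hr.out.two_le; omega
  obtain ⟨θ, hθ⟩ : Y.Nonempty := by
    rw [← Finset.card_pos, hYc]
    exact Nat.div_pos (Nat.le_of_dvd hr1 hk) (Nat.pos_of_ne_zero hk0)
  have hθT : θ ≠ Char.trivialIrr G := fun h => Finset.disjoint_left.1 hdisj hTX (h ▸ hθ)
  have hone : ¬ r ∣ orderOf (1 : G) := by rw [orderOf_one]; exact hr.out.not_dvd_one
  set lo := if 1 < c then 2 * r else 2 with hlo
  have hbig : ∀ χ, (χ ∈ X ∨ χ ∈ Y) → χ ≠ Char.trivialIrr G → lo ≤ dg χ := by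
    intro χ hχ hne
    rw [hlo]
    split_ifs with hc
    · obtain ⟨q, hq, hqc⟩ := Nat.exists_prime_and_dvd (n := c) (by omega)
      haveI := Fact.mk hq
      obtain ⟨v, hv⟩ := exists_prime_orderOf_dvd_card'
        (G := ↥(centralizer ((P : Subgroup G) : Set G))) q (hC P ▸ dvd_mul_of_dvd_right hqc r)
      exact OrderP.two_mul_le_degree hM P (hP P) ((hB χ).2 hχ) hG hq
        (fun h => hrc (h ▸ hqc)) ((Subgroup.orderOf_coe v).trans hv) v.2
        (fun e => hne (Subtype.ext e)) (hdg χ)
    · exact Exceptional.one_lt_degree hr.out hG hne (hdg χ)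
  have hYeq : ∀ θ' ∈ Y, dg θ' = dg θ := fun θ' h => by
    have h1 := (hrel θ' h 1 hone).trans (hrel θ hθ 1 hone).symm
    simp only [hdg] at h1
    rcases hε with rfl | rfl <;> simp at h1 <;> exact h1
  have htot : (r - 1) / k * (dg θ * dg θ) + ∑ χ ∈ X, dg χ * dg χ ≤ Nat.card G := by
    have h : ∑ χ : Cfsg.IrrCharacter G, (dg χ : ℝ) ^ 2 = Nat.card G := by
      have h := Char.sum_irr_degree_sq (G := G)
      simp only [hdg] at h
      exact_mod_cast h
    have hle : ∑ χ ∈ Y ∪ X, (dg χ : ℝ) ^ 2 ≤ Nat.card G :=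
      h ▸ Finset.sum_le_sum_of_subset_of_nonneg (Finset.subset_univ _) fun χ _ _ => sq_nonneg _
    rw [Finset.sum_union hdisj.symm, Finset.sum_congr rfl
      (fun θ' h => by rw [hYeq θ' h] : ∀ θ' ∈ Y, (dg θ' : ℝ) ^ 2 = (dg θ : ℝ) ^ 2),
      Finset.sum_const, hYc, nsmul_eq_mul] at hle
    simp only [pow_two] at hle
    exact_mod_cast hle
  have hdgT : dg (Char.trivialIrr G) = 1 := by
    have h := (hdg (Char.trivialIrr G)).symm.trans
      (show ((Char.trivialIrr G : Cfsg.IrrCharacter G) : G → ℂ) 1 = 1 from rfl)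
    exact_mod_cast h
  rw [← Finset.add_sum_erase _ _ hTX, hdgT] at htot
  have hlo2 : 2 ≤ lo := by rw [hlo]; split_ifs <;> have := hr.out.two_le <;> omega
  have hsmall : ∀ f, f * f ≤ Nat.card G → f < 80 := fun f hf => by
    by_contra h
    have := Nat.mul_le_mul (show 80 ≤ f by omega) (show 80 ≤ f by omega)
    omega
  have hθd : dg θ ∈ degrees (Nat.card G) lo := by
    rw [degrees, List.mem_filter, List.mem_range, Bool.and_eq_true, decide_eq_true_eq, beq_iff_eq]
    refine ⟨hsmall _ ?_, hbig θ (.inr hθ) hθT, Nat.mod_eq_zero_of_dvd (hdgdvd θ)⟩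
    have := Nat.le_mul_of_pos_left (dg θ * dg θ)
      (Nat.div_pos (Nat.le_of_dvd hr1 hk) (Nat.pos_of_ne_zero hk0))
    omega
  set L := (X.erase (Char.trivialIrr G)).toList.map fun χ => (dg χ, sgn χ) with hL
  have hLmem : ∀ z ∈ L, z ∈ signed (Nat.card G) r lo := by
    intro z hz
    obtain ⟨χ, hχ, rfl⟩ := List.mem_map.1 hz
    rw [Finset.mem_toList] at hχ
    have hle : dg χ * dg χ ≤ ∑ ψ ∈ X.erase (Char.trivialIrr G), dg ψ * dg ψ :=
      Finset.single_le_sum (f := fun ψ => dg ψ * dg ψ) (fun _ _ => Nat.zero_le _) hχ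
    rw [Finset.mem_erase] at hχ
    rw [signed, List.mem_flatMap]
    refine ⟨dg χ, ?_, ?_⟩
    · rw [degrees, List.mem_filter, List.mem_range, Bool.and_eq_true, decide_eq_true_eq, beq_iff_eq]
      exact ⟨hsmall _ (by omega), hbig χ (.inl hχ.2) hχ.1, Nat.mod_eq_zero_of_dvd (hdgdvd χ)⟩
    · obtain ⟨hs, hdv, -⟩ := hXd χ hχ.2
      rw [hcd] at hdv
      refine List.mem_filterMap.2 ⟨sgn χ, by simpa using hs, ?_⟩
      rw [if_pos (Int.emod_eq_zero_of_dvd hdv)]
  have hLlen : L.length = k - 1 := by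
    rw [hL, List.length_map, Finset.length_toList, Finset.card_erase_of_mem hTX, hXc]
  have hLsum : sgnSum L = ε * dg θ - 1 := by
    have h := hrel θ hθ 1 hone
    simp only [hdg] at h
    rw [← Finset.add_sum_erase _ _ hTX, hTs, hdgT] at h
    rw [hL, sgnSum, List.map_map, Finset.sum_map_toList]
    have h' : (((ε * dg θ - 1 : ℤ)) : ℂ) =
        ((∑ χ ∈ X.erase (Char.trivialIrr G), sgn χ * (dg χ : ℤ) : ℤ) : ℂ) := by
      push_cast
      rw [h]
      push_cast
      ring
    exact (Int.cast_inj.1 h').symm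
  have hLsq : sqSum L ≤ Nat.card G - 1 - (r - 1) / k * (dg θ * dg θ) := by
    rw [hL, sqSum, List.map_map, Finset.sum_map_toList]
    simp only [Function.comp_def]
    omega
  simp only [degOk, List.any_eq_true]
  refine ⟨ε, by simpa using hε, dg θ, hθd, ?_⟩
  rw [Bool.and_eq_true, Bool.and_eq_true, beq_iff_eq, decide_eq_true_eq]
  refine ⟨⟨Int.emod_eq_zero_of_dvd (hcd θ ▸ hYd θ hθ), by omega⟩, ?_⟩
  rw [← hLsum, ← hLlen]
  exact search_complete _ L _ hLmem hLsq

end Cfsg.Agent.SmallGroups.BelowSixThousand
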